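import Groth.Agent.L09.EtGlueSp.Mono
import Groth.Agent.L23.AlgSpace
import Groth.Agent.L23.Glue
import Groth.Agent.L23.Epi

/-!
# Equality of morphisms of spaces over a glueing pair
-/

universe u

open CategoryTheory CategoryTheory.Limits AlgebraicGeometry AlgSp TensorProduct

set_option autoImplicit false
set_option backward.isDefEq.respectTransparency false
set_option backward.isDefEq.respectTransparency.types false

noncomputable section

namespace Groth.L09.EtGlueSp

open Groth.L23

variable {R : CommRingCat.{u}}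

theorem yon_terminal_subsingleton {S : Scheme.{u}} (T : Over S) (x y : (yon S).obj T ⟶ (yon S).obj (Over.mk (𝟙 S))) :
    x = y := by
  obtain ⟨x, rfl⟩ := (yon S).map_surjective x
  obtain ⟨y, rfl⟩ := (yon S).map_surjective y
  exact congrArg _ (Over.OverMorphism.ext (by simpa using (Over.w x).trans (Over.w y).symm))

/-- Two maps from an affine chart agree if they agree on both pieces of a glueing pair. -/
theorem eq_of_charts {Z : Sp (Spec R)} (hZ : IsAlgSpace Z) {A A' : CommRingCat.{u}} [Algebra A A'] (f : A)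
    (h : EtGlue.IsGlueingPair A A' f) (p : Spec A ⟶ Spec R)
    (x y : (yon (Spec R)).obj (Over.mk p) ⟶ Z)
    (hu : (yon (Spec R)).map (Over.homMk (U := Over.mk (Spec.map (CommRingCat.ofHom (algebraMap A (Localization.Away f))) ≫ p))
        (Spec.map (CommRingCat.ofHom (algebraMap A (Localization.Away f)))) : _ ⟶ Over.mk p) ≫ x =
      (yon (Spec R)).map (Over.homMk (U := Over.mk (Spec.map (CommRingCat.ofHom (algebraMap A (Localization.Away f))) ≫ p))
        (Spec.map (CommRingCat.ofHom (algebraMap A (Localization.Away f)))) : _ ⟶ Over.mk p) ≫ y)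
    (hv : (yon (Spec R)).map (Over.homMk (U := Over.mk (Spec.map (CommRingCat.ofHom (algebraMap A A')) ≫ p))
        (Spec.map (CommRingCat.ofHom (algebraMap A A'))) : _ ⟶ Over.mk p) ≫ x =
      (yon (Spec R)).map (Over.homMk (U := Over.mk (Spec.map (CommRingCat.ofHom (algebraMap A A')) ≫ p))
        (Spec.map (CommRingCat.ofHom (algebraMap A A'))) : _ ⟶ Over.mk p) ≫ y) : x = y := by
  let hd := diag_properties hZ
  let m := prod.lift x y
  let q := hd.1.snd m
  obtain ⟨hlft, hmono⟩ : diagProp q.left := repWith_snd hd m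
  have : Mono q.left := hmono
  have : LocallyOfFiniteType q.left := hlft
  have lift_exists : ∀ {T : Over (Spec R)} (t : T ⟶ Over.mk p),
      (yon (Spec R)).map t ≫ x = (yon (Spec R)).map t ≫ y → ∃ l : T ⟶ hd.1.pullback m, l ≫ q = t := by
    intro T t e
    refine ⟨hd.1.lift (g := m) ((yon (Spec R)).map t ≫ x) t ?_, hd.1.lift_snd _ _ _⟩
    apply prod.hom_ext <;> simp [m, e]
  obtain ⟨lu, hlu⟩ := lift_exists _ hu
  obtain ⟨lv, hlv⟩ := lift_exists _ hv
  obtain ⟨σ, hσ⟩ := exists_section f h q.left lu.left lv.left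
    (congrArg CommaMorphism.left hlu) (congrArg CommaMorphism.left hlv)
  let σ' : Over.mk p ⟶ hd.1.pullback m := Over.homMk σ (by
    rw [← Over.w q, ← Category.assoc, hσ]; exact Category.id_comp _)
  have hσ' : σ' ≫ q = 𝟙 _ := Over.OverMorphism.ext hσ
  have w := congrArg (fun n => (yon (Spec R)).map σ' ≫ n) (hd.1.isPullback m).w
  rw [← Functor.map_comp_assoc, hσ', CategoryTheory.Functor.map_id, Category.id_comp] at w
  have w₁ := w =≫ prod.fst
  have w₂ := w =≫ prod.snd
  simp [m] at w₁ w₂
  exact w₁.symm.trans w₂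

end Groth.L09.EtGlueSp
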