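import Groth.Agent.L05.Glue.Algebra
import Groth.Agent.L27.AlgebraMisc
import Mathlib.AlgebraicGeometry.ZariskisMainTheorem
import Mathlib.AlgebraicGeometry.QuasiAffine

/-!
# Monomorphisms with sections over both charts of a glueing pair
-/

universe u

open CategoryTheory CategoryTheory.Limits AlgebraicGeometry

set_option autoImplicit false
set_option backward.isDefEq.respectTransparency.types false

noncomputable section

namespace Groth.L09.EtGlueSp

variable {A A' : CommRingCat.{u}} [Algebra A A'] (f : A)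

theorem isQuasiAffine_of_lqf {X Y : Scheme.{u}} [IsAffine Y] [CompactSpace X] (g : X ⟶ Y) [IsSeparated g]
    [LocallyQuasiFinite g] [LocallyOfFiniteType g] : X.IsQuasiAffine := by
  have : QuasiCompact g := (quasiCompact_iff_compactSpace (f := g)).mpr inferInstance
  have : IsOpenImmersion g.toNormalization := inferInstance
  have : IsAffine g.normalization := isAffine_of_isAffineHom g.fromNormalization
  exact Scheme.IsQuasiAffine.of_isImmersion g.toNormalization

theorem exists_section (h : EtGlue.IsGlueingPair A A' f) {W : Scheme.{u}} (q : W ⟶ Spec A) [Mono q]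
    [LocallyOfFiniteType q] (u : Spec (CommRingCat.of (Localization.Away f)) ⟶ W) (v : Spec A' ⟶ W)
    (hu : u ≫ q = Spec.map (CommRingCat.ofHom (algebraMap A (Localization.Away f))))
    (hv : v ≫ q = Spec.map (CommRingCat.ofHom (algebraMap A A'))) :
    ∃ σ : Spec A ⟶ W, σ ≫ q = 𝟙 _ := by
  obtain ⟨hq, hinj, hglue, -⟩ := h
  have hpts : ∀ p : PrimeSpectrum A, (∃ a, q (v a) = p) ∨ ∃ a, q (u a) = p := fun p => by
    have key : ∀ g, f ^ 1 = g → Function.Bijective (Ideal.quotientMap (Ideal.map (algebraMap A A') (Ideal.span {g}))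
        (algebraMap A A') Ideal.le_comap_map) := by
      rintro g rfl
      exact hq 1 one_pos
    have hq1 := key f (pow_one f)
    refine (Groth.L27.AlgebraMisc.comap_jointly_surjective f hq1 p).imp ?_ ?_
    · rintro ⟨a, ha⟩
      exact ⟨a, by rw [← Scheme.Hom.comp_apply, hv]; exact ha⟩
    · rintro ⟨a, ha⟩
      exact ⟨a, by rw [← Scheme.Hom.comp_apply, hu]; exact ha⟩
  have hqinj : Function.Injective q := q.injective
  have hcov : Set.range v ∪ Set.range u = Set.univ := Set.eq_univ_of_forall fun w =>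
    (hpts (q w)).imp (fun ⟨a, ha⟩ => ⟨a, hqinj ha⟩) fun ⟨a, ha⟩ => ⟨a, hqinj ha⟩
  have : CompactSpace W := ⟨hcov ▸ (isCompact_range v.continuous).union (isCompact_range u.continuous)⟩
  have : W.IsQuasiAffine := isQuasiAffine_of_lqf q
  let φ : A ⟶ Γ(W, ⊤) := (Scheme.ΓSpecIso A).inv ≫ q.appTop
  have hφ : W.toSpecΓ ≫ Spec.map φ = q := by
    rw [Spec.map_comp, ← Scheme.toSpecΓ_naturality_assoc, AlgebraicGeometry.toSpecΓ_SpecMap_ΓSpecIso_inv,
      Category.comp_id]
  let u' : Γ(W, ⊤) ⟶ CommRingCat.of (Localization.Away f) := Spec.preimage (u ≫ W.toSpecΓ)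
  let v' : Γ(W, ⊤) ⟶ A' := Spec.preimage (v ≫ W.toSpecΓ)
  have hu' : Spec.map u' = u ≫ W.toSpecΓ := Spec.map_preimage _
  have hv' : Spec.map v' = v ≫ W.toSpecΓ := Spec.map_preimage _
  have hφu : φ ≫ u' = CommRingCat.ofHom (algebraMap A (Localization.Away f)) := Spec.map_injective (by
    rw [Spec.map_comp, hu', Category.assoc, hφ, hu])
  have hφv : φ ≫ v' = CommRingCat.ofHom (algebraMap A A') := Spec.map_injective (by
    rw [Spec.map_comp, hv', Category.assoc, hφ, hv])
  let A'f := Localization.Away (algebraMap A A' f)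
  let cu : CommRingCat.of (Localization.Away f) ⟶ CommRingCat.of A'f :=
    CommRingCat.ofHom (Localization.awayMap (algebraMap A A') f)
  let cv : A' ⟶ CommRingCat.of A'f := CommRingCat.ofHom (algebraMap A' A'f)
  have hc : CommRingCat.ofHom (algebraMap A (Localization.Away f)) ≫ cu =
      CommRingCat.ofHom (algebraMap A A') ≫ cv := by
    ext a
    simp [cu, cv, A'f, Localization.awayMap, IsLocalization.Away.map, IsLocalization.map_eq]
  have hcomp : u' ≫ cu = v' ≫ cv := Spec.map_injective (by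
    rw [Spec.map_comp, Spec.map_comp, hu', hv']
    simp only [← Category.assoc]
    congr 1
    rw [← cancel_mono q, Category.assoc, Category.assoc, hu, hv, ← Spec.map_comp, ← Spec.map_comp, hc])
  choose w hw₁ hw₂ using fun b : Γ(W, ⊤) => hglue (v'.hom b) (u'.hom b)
    (congrArg (fun m => m.hom b) hcomp).symm
  have huniq : ∀ a a' : A, algebraMap A A' a = algebraMap A A' a' →
      algebraMap A (Localization.Away f) a = algebraMap A (Localization.Away f) a' → a = a' :=
    fun a a' e₁ e₂ => hinj (Prod.ext e₁ e₂)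
  let ω : Γ(W, ⊤) ⟶ A := CommRingCat.ofHom
    { toFun := w
      map_one' := huniq _ _ (by simp [hw₁]) (by simp [hw₂])
      map_zero' := huniq _ _ (by simp [hw₁]) (by simp [hw₂])
      map_add' := fun x y => huniq _ _ (by simp [hw₁]) (by simp [hw₂])
      map_mul' := fun x y => huniq _ _ (by simp [hw₁]) (by simp [hw₂]) }
  have hωv : ω ≫ CommRingCat.ofHom (algebraMap A A') = v' := by ext b; exact hw₁ b
  have hωu : ω ≫ CommRingCat.ofHom (algebraMap A (Localization.Away f)) = u' := by ext b; exact hw₂ b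
  have hωφ : φ ≫ ω = 𝟙 A := by
    ext a
    refine huniq _ _ ((hw₁ _).trans ?_) ((hw₂ _).trans ?_)
    · exact congrArg (fun m => m.hom a) hφv
    · exact congrArg (fun m => m.hom a) hφu
  have hrange : Set.range (Spec.map ω) ⊆ Set.range W.toSpecΓ := by
    rintro _ ⟨p, rfl⟩
    obtain ⟨a, rfl⟩ | ⟨a, rfl⟩ := hpts p
    · refine ⟨v a, ?_⟩
      rw [← Scheme.Hom.comp_apply, ← hv', ← hωv, Spec.map_comp, ← hv, Scheme.Hom.comp_apply,
        Scheme.Hom.comp_apply]
    · refine ⟨u a, ?_⟩
      rw [← Scheme.Hom.comp_apply, ← hu', ← hωu, Spec.map_comp, ← hu, Scheme.Hom.comp_apply,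
        Scheme.Hom.comp_apply]
  refine ⟨IsOpenImmersion.lift W.toSpecΓ (Spec.map ω) hrange, ?_⟩
  conv_lhs => rw [← hφ, ← Category.assoc, IsOpenImmersion.lift_fac, ← Spec.map_comp, hωφ, Spec.map_id]

end Groth.L09.EtGlueSp
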